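import Cfsg.Agent.Lib.Fusion.Systems
import Cfsg.Agent.Lib.Fusion.Series
import Cfsg.Agent.Lib.Fusion.Normal
import Cfsg.Agent.Lib.Fusion.Center
import Cfsg.Agent.Lib.Fusion.Alperin
import Cfsg.Agent.Lib.Fusion.Saturation
import Cfsg.Agent.Lib.Fusion.Model.Main

/-!
A saturated fusion system over a group of class two in which every non-central element has abelian
centralizer and commutators covering the centre is constrained as soon as its core is nontrivial.
-/

set_option autoImplicit false
set_option linter.unusedSectionVars false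

namespace CfsgLib.SemiExtraFusion

open Cfsg Cfsg.FusionSystem

variable {Ω : Type*} [Group Ω] {S : Subgroup Ω} [Finite S] {p : ℕ} [Fact p.Prime] {F : FusionSystem S}

/-- An automorphism of a subgroup containing a normal subgroup preserves it. -/
theorem apply_mem_of_normal {P Q : Subgroup Ω} (hQ : F.IsNormal Q) (hQP : Q ≤ P) (hP : P ≤ S) {α : MulAut P}
    (hα : α ∈ F.autGroup P) {x : P} (hx : (x : Ω) ∈ Q) : ((α x : P) : Ω) ∈ Q := by
  obtain ⟨φ, hφ, -, he⟩ := F.exists_map_of_mem_autGroup hP hα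
  rw [← he]
  let r : Q →* P := Subgroup.inclusion hQP
  exact hQ.stronglyClosed.2 Q le_rfl _ (F.restrict_mem hφ hQP) ⟨x, hx⟩

theorem isConstrained_of_core_ne_bot (hS : IsPGroup p S) (hF : F.IsSaturated p)
    (hclass : ∀ a b c : S, Commute (a * b * a⁻¹ * b⁻¹) c)
    (hsurj : ∀ x : S, (∃ a, ¬ Commute a x) → ∀ z : S, (∀ a, Commute a z) → ∃ g : S, g * x * g⁻¹ = x * z)
    (hab : ∀ x : S, (∃ a, ¬ Commute a x) → ∀ a b : S, Commute a x → Commute b x → Commute a b)
    (hcore : F.core ≠ ⊥) : F.IsConstrained p := by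
  classical
  set Q := F.core with hQdef
  have hQ : F.IsNormal Q := isNormal_core F
  let Z : Subgroup Ω := centralizerIn S S
  have hZ : ∀ {z : Ω}, z ∈ Z ↔ z ∈ S ∧ ∀ a ∈ S, a * z = z * a := by
    intro z
    exact ⟨fun h => ⟨h.1, Subgroup.mem_centralizer_iff.mp h.2⟩, fun h => ⟨h.1, Subgroup.mem_centralizer_iff.mpr h.2⟩⟩
  have hout : ∀ {x : Ω} (hx : x ∈ S), x ∉ Z → ∃ a, ¬ Commute a (⟨x, hx⟩ : S) := by
    intro x hx hxZ
    by_contra h
    push Not at h
    exact hxZ (hZ.mpr ⟨hx, fun a ha => congrArg Subtype.val (h ⟨a, ha⟩).eq⟩)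
  have hcomm : ∀ {a b : Ω}, a ∈ S → b ∈ S → a * b * a⁻¹ * b⁻¹ ∈ Z := fun {a b} ha hb =>
    hZ.mpr ⟨S.mul_mem (S.mul_mem (S.mul_mem ha hb) (S.inv_mem ha)) (S.inv_mem hb), fun c hc =>
      congrArg Subtype.val (hclass ⟨a, ha⟩ ⟨b, hb⟩ ⟨c, hc⟩).eq.symm⟩
  -- essential subgroups are the centralizers of their non-central elements
  have hess : ∀ P, F.IsEssential p P → Z ≤ P ∧ S ≤ Subgroup.normalizer (P : Set Ω) ∧
      (∃ c ∈ P, c ∉ Z) ∧ (∀ a ∈ P, ∀ b ∈ P, a * b = b * a) ∧
      ∀ x ∈ P, x ∉ Z → ∀ g ∈ S, g * x = x * g → g ∈ P := by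
    intro P hP
    have hPS := hP.1.1
    have hZP : Z ≤ P := fun z hz => hP.1.centralizerIn_le_self
      ⟨hz.1, Subgroup.mem_centralizer_iff.mpr fun a ha => (hZ.mp hz).2 a (hPS ha)⟩
    have hnorm : S ≤ Subgroup.normalizer (P : Set Ω) := by
      intro g hg
      refine Subgroup.mem_normalizer_iff.mpr fun x => ⟨fun hx => ?_, fun hx => ?_⟩
      · have h := P.mul_mem (hZP (hcomm hg (hPS hx))) hx
        rwa [inv_mul_cancel_right] at h
      · have h := P.mul_mem (hZP (hcomm (S.inv_mem hg) (hPS hx))) hx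
        rw [inv_mul_cancel_right] at h
        simpa [mul_assoc] using h
    haveI : Finite P := finite_of_le hPS
    -- a central element of `P` outside `Z`
    have hc : ∃ c ∈ P, c ∉ Z ∧ ∀ a ∈ P, a * c = c * a := by
      by_contra hno
      push Not at hno
      obtain ⟨g, hg, hgP⟩ := SetLike.exists_of_lt (hP.lt hS hF)
      refine hgP (mem_of_invariant_series hS hP.1 (hP.isRadical hS hF) (m := 2)
        ![⊥, Subgroup.center P, ⊤] rfl rfl (fun α _ i x hx => ?_) ⟨hg, hnorm hg⟩ fun i x hx h => ?_)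
      · fin_cases i
        · change x ∈ (⊥ : Subgroup P) at hx
          show _ ∈ (⊥ : Subgroup P)
          rw [Subgroup.mem_bot] at hx ⊢
          simp [hx]
        · change x ∈ Subgroup.center P at hx
          show _ ∈ Subgroup.center P
          have := (Subgroup.characteristic_iff_map_le.mp (inferInstance : (Subgroup.center P).Characteristic)) α
          exact this ⟨x, hx, rfl⟩
        · exact Subgroup.mem_top _
      · have hcen : ∀ y : P, y ∈ Subgroup.center P → (y : Ω) ∈ Z := fun y hy => by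
          by_contra hyZ
          obtain ⟨a, ha, hne⟩ := hno y y.2 hyZ
          exact hne (congrArg Subtype.val (Subgroup.mem_center_iff.mp hy ⟨a, ha⟩))
        fin_cases i
        · change x ∈ Subgroup.center P at hx
          show _ ∈ (⊥ : Subgroup P)
          rw [Subgroup.mem_bot, inv_mul_eq_one]
          refine Subtype.ext ?_
          show (x : Ω) = g * x * g⁻¹
          rw [(hZ.mp (hcen x hx)).2 g hg, mul_inv_cancel_right]
        · refine Subgroup.mem_center_iff.mpr fun a => Subtype.ext ?_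
          show (a : Ω) * ((x : Ω)⁻¹ * (g * x * g⁻¹)) = (x : Ω)⁻¹ * (g * x * g⁻¹) * a
          refine ((hZ.mp ?_).2 a (hPS a.2))
          have h1 := hcomm (S.inv_mem (hPS x.2)) hg
          rw [inv_inv] at h1
          simpa [mul_assoc] using h1
    obtain ⟨c, hcP, hcZ, hcc⟩ := hc
    have hPab : ∀ a ∈ P, ∀ b ∈ P, a * b = b * a := fun a ha b hb =>
      congrArg Subtype.val (hab ⟨c, hPS hcP⟩ (hout _ hcZ) ⟨a, hPS ha⟩ ⟨b, hPS hb⟩
        (Subtype.ext (hcc a ha)) (Subtype.ext (hcc b hb))).eq
    refine ⟨hZP, hnorm, ⟨c, hcP, hcZ⟩, hPab, fun x hx hxZ g hg hgx => hP.1.centralizerIn_le_self ⟨hg, ?_⟩⟩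
    refine Subgroup.mem_centralizer_iff.mpr fun a ha => ?_
    exact congrArg Subtype.val (hab ⟨x, hPS hx⟩ (hout _ hxZ) ⟨a, hPS ha⟩ ⟨g, hg⟩
      (Subtype.ext (hPab a ha x hx)) (Subtype.ext hgx)).eq
  refine ⟨hF, ?_⟩
  by_cases hQZ : Q ≤ Z
  · -- there are no essential subgroups
    have hno : ∀ P, ¬ F.IsEssential p P := by
      intro P hP
      obtain ⟨hZP, hnorm, ⟨c, hcP, hcZ⟩, hPab, hcent⟩ := hess P hP
      have hPS := hP.1.1
      haveI : Finite P := finite_of_le hPS
      haveI hfin := finite_autGroup (F := F) hPS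
      obtain ⟨-, T, hT⟩ := hF.isFullyAutomized_of_isFullyNormalized hS hP.2.1
      obtain ⟨φ, hφ⟩ : ∃ φ : F.autGroup P, ∃ z : P, (z : Ω) ∈ Z ∧ (((φ : MulAut P) z : P) : Ω) ∉ Z := by
        by_contra hno
        push Not at hno
        obtain ⟨g, hg, hgP⟩ := SetLike.exists_of_lt (hP.lt hS hF)
        refine hgP (mem_of_invariant_series hS hP.1 (hP.isRadical hS hF) (m := 2)
          ![⊥, Z.subgroupOf P, ⊤] rfl rfl (fun α hα i x hx => ?_) ⟨hg, hnorm hg⟩ fun i x hx h => ?_)
        · fin_cases i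
          · change x ∈ (⊥ : Subgroup P) at hx
            show _ ∈ (⊥ : Subgroup P)
            rw [Subgroup.mem_bot] at hx ⊢
            simp [hx]
          · exact hno ⟨α, hα⟩ x hx
          · exact Subgroup.mem_top _
        · fin_cases i
          · change x ∈ Z.subgroupOf P at hx
            show _ ∈ (⊥ : Subgroup P)
            rw [Subgroup.mem_bot, inv_mul_eq_one]
            refine Subtype.ext ?_
            show (x : Ω) = g * x * g⁻¹
            rw [show g * (x : Ω) = x * g from (hZ.mp hx).2 g hg, mul_inv_cancel_right]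
          · show (x : Ω)⁻¹ * (g * x * g⁻¹) ∈ Z
            have h1 := hcomm (S.inv_mem (hPS x.2)) hg
            rw [inv_inv] at h1
            simpa [mul_assoc] using h1
      obtain ⟨z, hzZ, hy⟩ := hφ
      set y : P := (φ : MulAut P) z with hydef
      obtain ⟨i, hiQ, hi1⟩ : ∃ i ∈ Q, i ≠ 1 := by
        by_contra h
        push Not at h
        exact hcore ((Subgroup.eq_bot_iff_forall _).mpr h)
      obtain ⟨g, hg⟩ := hsurj ⟨y, hPS y.2⟩ (hout _ hy) ⟨i, hQ.1 hiQ⟩ fun a =>
        Subtype.ext ((hZ.mp (hQZ hiQ)).2 a a.2)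
      have hgy : (g : Ω) * y * (g : Ω)⁻¹ = y * i := congrArg Subtype.val hg
      have hQP : Q ≤ P := hQZ.trans hZP
      let M : Subgroup (F.autGroup P) :=
        { carrier := {a | ((y⁻¹ * (a : MulAut P) y : P) : Ω) ∈ Q}
          one_mem' := by simp
          mul_mem' := fun {a b} ha hb => by
            have h2 := apply_mem_of_normal hQ hQP hPS a.2 hb
            have h3 := Q.mul_mem ha h2
            rw [← Subgroup.coe_mul] at h3
            simpa [MulAut.mul_apply, mul_assoc] using h3
          inv_mem' := fun {a} ha => by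
            have h2 := apply_mem_of_normal hQ hQP hPS (a⁻¹).2 ha
            have h3 := Q.inv_mem h2
            rw [← Subgroup.coe_inv] at h3
            simpa using h3 }
      have hTfix : ∀ t ∈ (T : Subgroup (F.autGroup P)), ∀ x : P, (x : Ω) ∈ Z → (t : MulAut P) x = x := by
        intro t ht x hx
        obtain ⟨h, hhS, -, he⟩ := mem_autInducedBy_iff.mp (hT.le ht)
        exact Subtype.ext ((he x).trans (by rw [(hZ.mp hx).2 h hhS, mul_inv_cancel_right]))
      let T₂ : Sylow p (F.autGroup P) := φ • T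
      have hT₂ : ∀ {a : F.autGroup P}, a ∈ (T₂ : Subgroup (F.autGroup P)) ↔ φ⁻¹ * a * φ ∈ (T : Subgroup (F.autGroup P)) := by
        intro a
        rw [Sylow.coe_subgroup_smul]
        constructor
        · rintro ⟨s, hs, rfl⟩
          show φ⁻¹ * (φ * s * φ⁻¹) * φ ∈ _
          rw [show φ⁻¹ * (φ * s * φ⁻¹) * φ = s by group]
          exact hs
        · exact fun h => ⟨_, h, by simp [MulAut.smul_def, mul_assoc]⟩
      have hT₂M : (T₂ : Subgroup (F.autGroup P)) ≤ M := by
        intro a ha
        have h1 := hTfix _ (hT₂.mp ha) z hzZ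
        have h2 : (a : MulAut P) y = y := by
          have := congrArg (fun w => (φ : MulAut P) w) h1
          simpa [MulAut.mul_apply] using this
        show ((y⁻¹ * (a : MulAut P) y : P) : Ω) ∈ Q
        rw [h2, inv_mul_cancel]
        exact Q.one_mem
      have hgmem : P.normalizerMonoidHom ⟨g, hnorm g.2⟩ ∈ autInducedBy S P :=
        mem_autInducedBy_iff.mpr ⟨g, g.2, hnorm g.2, fun _ => rfl⟩
      let t : F.autGroup P := ⟨_, autInducedBy_le_autGroup hPS hgmem⟩
      have htT : t ∈ (T : Subgroup (F.autGroup P)) := by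
        exact hT.ge (show t ∈ (autInducedBy S P).subgroupOf (F.autGroup P) from hgmem)
      have hty : (t : MulAut P) y = y * ⟨i, hQP hiQ⟩ := Subtype.ext hgy
      have htM : t ∈ M := by
        show ((y⁻¹ * (t : MulAut P) y : P) : Ω) ∈ Q
        rw [hty, inv_mul_cancel_left]
        exact hiQ
      -- conjugate `t` into the second Sylow subgroup
      have hpz : IsPGroup p (Subgroup.zpowers (⟨t, htM⟩ : M)) := by
        have h1 : IsPGroup p ((T : Subgroup (F.autGroup P)).comap M.subtype) :=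
          T.2.comap_of_injective M.subtype Subtype.val_injective
        exact h1.to_le (Subgroup.zpowers_le.mpr htT)
      obtain ⟨T₃, hT₃⟩ := hpz.exists_le_sylow
      obtain ⟨m, hm⟩ := MulAction.exists_smul_eq M (T₂.subtype hT₂M) T₃
      have hmem := hT₃ (Subgroup.mem_zpowers (⟨t, htM⟩ : M))
      rw [← hm, Sylow.coe_subgroup_smul] at hmem
      obtain ⟨s, hs, he⟩ := hmem
      have he' : (m : F.autGroup P) * s * (m : F.autGroup P)⁻¹ = t := congrArg Subtype.val he
      have hsy : ((s : F.autGroup P) : MulAut P) y = y := by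
        have h1 := hTfix _ (hT₂.mp hs) z hzZ
        have := congrArg (fun w => (φ : MulAut P) w) h1
        simpa [MulAut.mul_apply] using this
      set w := ((m : F.autGroup P) : MulAut P) y with hw
      have htw : (t : MulAut P) w = w := by
        rw [← he', hw]
        simp [MulAut.mul_apply, hsy]
      have hwZ : (w : Ω) ∈ Z := by
        by_contra hwZ
        have h1 : (g : Ω) * w * (g : Ω)⁻¹ = w := congrArg Subtype.val htw
        have hgP : (g : Ω) ∈ P := hcent w w.2 hwZ g g.2 (mul_inv_eq_iff_eq_mul.mp h1)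
        have : (g : Ω) * y * (g : Ω)⁻¹ = y := by rw [hPab _ hgP _ y.2, mul_inv_cancel_right]
        rw [hgy] at this
        exact hi1 (mul_left_cancel (this.trans (mul_one _).symm))
      have hmy : ((y⁻¹ * w : P) : Ω) ∈ Q := m.2
      refine hy ?_
      have h3 := Z.mul_mem hwZ (Z.inv_mem (hQZ hmy))
      rwa [Subgroup.coe_mul, Subgroup.coe_inv, mul_inv_rev, inv_inv, mul_inv_cancel_left] at h3
    refine ⟨S, hF.isNormal_of_invariant hS ?_, le_rfl, fun R hR => ?_⟩
    · rintro P (rfl | hP)
      · refine ⟨le_rfl, fun α _ => ?_⟩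
        rw [Subgroup.subgroupOf_self]
        exact Subgroup.map_top_of_surjective _ α.surjective
      · exact absurd hP (hno P)
    · have h1 : R = S := by
        refine Subgroup.eq_of_le_of_card_ge hR.le_right (by rw [hR.card_eq])
      rw [h1]
      exact centralizerIn_le
  · -- every essential subgroup is the centralizer of the core
    obtain ⟨q, hqQ, hqZ⟩ := SetLike.not_le_iff_exists.mp hQZ
    set C := centralizerIn S Q with hC
    have heq : ∀ P, F.IsEssential p P → P = C ⊔ Q := by
      intro P hP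
      obtain ⟨-, -, -, hPab, hcent⟩ := hess P hP
      have hQP : Q ≤ P := hQ.le_of_centric_radical hS hP.1 (hP.isRadical hS hF)
      refine le_antisymm (fun a ha => Subgroup.mem_sup_left (show a ∈ C from ⟨hP.1.1 ha,
        Subgroup.mem_centralizer_iff.mpr fun b hb => (hPab a ha b (hQP hb)).symm⟩)) (sup_le ?_ hQP)
      intro a ha
      exact hcent q (hQP hqQ) hqZ a ha.1 (Subgroup.mem_centralizer_iff.mp ha.2 q hqQ).symm
    have hCS : C ⊔ Q ≤ S := sup_le centralizerIn_le hQ.1
    have hinv : ∀ α ∈ F.autGroup S, ((C ⊔ Q).subgroupOf S).map α.toMonoidHom = (C ⊔ Q).subgroupOf S := by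
      have hkey : ∀ α ∈ F.autGroup S, ((C ⊔ Q).subgroupOf S).map α.toMonoidHom ≤ (C ⊔ Q).subgroupOf S := by
        intro α hα
        rw [Subgroup.subgroupOf_sup centralizerIn_le hQ.1, Subgroup.map_sup]
        refine sup_le_sup ?_ ?_
        · rintro _ ⟨x, hx, rfl⟩
          show ((α x : S) : Ω) ∈ C
          refine ⟨(α x).2, Subgroup.mem_centralizer_iff.mpr fun b hb => ?_⟩
          have hb' := apply_mem_of_normal hQ hQ.1 le_rfl ((F.autGroup S).inv_mem hα) (x := ⟨b, hQ.1 hb⟩) hb
          have h1 : ((α⁻¹ : MulAut S) ⟨b, hQ.1 hb⟩) * x = x * (α⁻¹ : MulAut S) ⟨b, hQ.1 hb⟩ :=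
            Subtype.ext (Subgroup.mem_centralizer_iff.mp hx.2 _ hb')
          have h2 := congrArg α h1
          simp only [map_mul, MulAut.apply_inv_self] at h2
          exact congrArg Subtype.val h2
        · rintro _ ⟨x, hx, rfl⟩
          exact apply_mem_of_normal hQ hQ.1 le_rfl hα hx
      exact fun α hα => Subgroup.eq_of_le_of_card_ge (hkey α hα)
        (by rw [Subgroup.card_map_of_injective (f := α.toMonoidHom) α.injective])
    have hnormal : F.IsNormal (C ⊔ Q) := by
      refine hF.isNormal_of_invariant hS ?_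
      rintro P (rfl | hP)
      · exact ⟨hCS, hinv⟩
      · rw [← heq P hP]
        refine ⟨le_rfl, fun α _ => ?_⟩
        rw [Subgroup.subgroupOf_self]
        exact Subgroup.map_top_of_surjective _ α.surjective
    refine ⟨_, hnormal, hCS, fun R hR => ?_⟩
    obtain ⟨ψ, hψ, hψR⟩ := hR
    have h1 : R = C ⊔ Q := by
      have : Finite ↥(C ⊔ Q) := finite_of_le hCS
      refine Subgroup.eq_of_le_of_card_ge ?_ (by rw [IsConj.card_eq ⟨ψ, hψ, hψR⟩])
      rw [← hψR]
      rintro _ ⟨x, rfl⟩
      exact hnormal.stronglyClosed.2 _ le_rfl ψ hψ x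
    rw [h1]
    exact fun a ha => Subgroup.mem_sup_left ⟨ha.1, Subgroup.centralizer_le (show (Q : Set Ω) ⊆ ↑(C ⊔ Q) from
      fun b hb => Subgroup.mem_sup_right hb) ha.2⟩

end CfsgLib.SemiExtraFusion
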