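import Cfsg.Agent.Lib.SemiExtra.Core
import Cfsg.Agent.Lib.PSLn.Sylow

/-! The unitriangular group of degree three. -/

set_option autoImplicit false
set_option linter.unusedSectionVars false

namespace CfsgLib.SemiExtraFusion

open Matrix Cfsg CfsgLib.PSLn
open scoped MatrixGroups

variable {K : Type*} [Field K] [Fintype K]

/-- Coordinates of an element. -/
def cx (A : upper K 3) : K := (A : Matrix.SpecialLinearGroup (Fin 3) K).1 0 1
/-- Coordinates of an element. -/
def cy (A : upper K 3) : K := (A : Matrix.SpecialLinearGroup (Fin 3) K).1 0 2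
/-- Coordinates of an element. -/
def cz (A : upper K 3) : K := (A : Matrix.SpecialLinearGroup (Fin 3) K).1 1 2

theorem upper_ext {A B : upper K 3} (h1 : cx A = cx B) (h2 : cy A = cy B) (h3 : cz A = cz B) : A = B := by
  apply Subtype.ext; apply Subtype.ext
  ext i j
  by_cases hij : j ≤ i
  · rw [A.2 i j hij, B.2 i j hij]
  · fin_cases i <;> fin_cases j <;> first | exact h1 | exact h2 | exact h3 | exact absurd (by decide) hij

theorem cx_mul (A B : upper K 3) : cx (A * B) = cx A + cx B := by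
  show (A.1.1 * B.1.1) 0 1 = A.1.1 0 1 + B.1.1 0 1
  rw [Matrix.mul_apply, Fin.sum_univ_three]
  rw [A.2 0 0 le_rfl, B.2 1 1 le_rfl, B.2 2 1 (by decide)]
  simp [add_comm]

theorem cz_mul (A B : upper K 3) : cz (A * B) = cz A + cz B := by
  show (A.1.1 * B.1.1) 1 2 = A.1.1 1 2 + B.1.1 1 2
  rw [Matrix.mul_apply, Fin.sum_univ_three]
  rw [A.2 1 0 (by decide), A.2 1 1 le_rfl, B.2 2 2 le_rfl]
  simp [add_comm]

theorem cy_mul (A B : upper K 3) : cy (A * B) = cy A + cy B + cx A * cz B := by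
  show (A.1.1 * B.1.1) 0 2 = A.1.1 0 2 + B.1.1 0 2 + A.1.1 0 1 * B.1.1 1 2
  rw [Matrix.mul_apply, Fin.sum_univ_three]
  rw [A.2 0 0 le_rfl, B.2 2 2 le_rfl]
  simp only [one_apply_eq, one_mul, mul_one]
  ring

/-- An element with the given coordinates. -/
def mkU (x y z : K) : upper K 3 :=
  ⟨⟨!![1, x, y; 0, 1, z; 0, 0, 1], by simp [Matrix.det_fin_three]⟩, fun i j hij => by
    fin_cases i <;> fin_cases j <;> first | rfl | simp at hij ⊢⟩

theorem commute_iff (A B : upper K 3) : Commute A B ↔ cx A * cz B = cx B * cz A := by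
  constructor
  · intro h
    have := congrArg cy h.eq
    rw [cy_mul, cy_mul] at this
    linear_combination this
  · intro h
    refine upper_ext ?_ ?_ ?_
    · rw [cx_mul, cx_mul, add_comm]
    · rw [cy_mul, cy_mul, h]; ring
    · rw [cz_mul, cz_mul, add_comm]

theorem noncentral {A : upper K 3} (h : ∃ B, ¬ Commute B A) : cx A ≠ 0 ∨ cz A ≠ 0 := by
  by_contra hc
  push Not at hc
  obtain ⟨B, hB⟩ := h
  exact hB ((commute_iff B A).mpr (by rw [hc.1, hc.2, mul_zero, zero_mul]))

theorem central_coords {C : upper K 3} (h : ∀ B, Commute B C) : cx C = 0 ∧ cz C = 0 := by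
  constructor
  · have := (commute_iff _ _).mp (h (mkU 0 0 1))
    simpa [cx, cz, mkU] using this.symm
  · have := (commute_iff _ _).mp (h (mkU 1 0 0))
    simpa [cx, cz, mkU] using this

theorem upper_class (A B C : upper K 3) : Commute (A * B * A⁻¹ * B⁻¹) C := by
  have h1 : ∀ X : upper K 3, cx X⁻¹ = - cx X := fun X => by
    have := cx_mul X X⁻¹
    rw [mul_inv_cancel] at this
    have h0 : cx (1 : upper K 3) = 0 := by simp [cx]
    rw [h0] at this
    linear_combination -this
  have h2 : ∀ X : upper K 3, cz X⁻¹ = - cz X := fun X => by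
    have := cz_mul X X⁻¹
    rw [mul_inv_cancel] at this
    have h0 : cz (1 : upper K 3) = 0 := by simp [cz]
    rw [h0] at this
    linear_combination -this
  rw [commute_iff, cx_mul, cx_mul, cx_mul, cz_mul, cz_mul, cz_mul, h1, h1, h2, h2]
  ring

theorem upper_surj (A : upper K 3) (hA : ∃ B, ¬ Commute B A) (C : upper K 3) (hC : ∀ B, Commute B C) :
    ∃ B : upper K 3, B * A * B⁻¹ = A * C := by
  obtain ⟨hx, hz⟩ := central_coords hC
  have key : ∀ B : upper K 3, cx B * cz A - cx A * cz B = cy C → B * A * B⁻¹ = A * C := by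
    intro B hB
    rw [mul_inv_eq_iff_eq_mul]
    refine upper_ext ?_ ?_ ?_
    · rw [cx_mul, cx_mul, cx_mul, hx]; ring
    · rw [cy_mul, cy_mul, cy_mul, cx_mul, hz, hx]
      linear_combination hB
    · rw [cz_mul, cz_mul, cz_mul, hz]; ring
  rcases noncentral hA with h | h
  · refine ⟨mkU 0 0 (-cy C / cx A), key _ ?_⟩
    show 0 * cz A - cx A * (-cy C / cx A) = cy C
    field_simp
    ring
  · refine ⟨mkU (cy C / cz A) 0 0, key _ ?_⟩
    show cy C / cz A * cz A - cx A * 0 = cy C
    field_simp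
    ring

theorem upper_ab (A : upper K 3) (hA : ∃ B, ¬ Commute B A) (B C : upper K 3) (hB : Commute B A) (hC : Commute C A) :
    Commute B C := by
  rw [commute_iff] at hB hC ⊢
  rcases noncentral hA with h | h
  · exact mul_left_cancel₀ h (by linear_combination (cx B) * (-hC) + (cx C) * hB)
  · exact mul_left_cancel₀ h (by linear_combination (cz C) * hB - (cz B) * hC)

theorem exists_upper_equiv (p : ℕ) [Fact p.Prime] [CharP K p] (T : Sylow p (Matrix.SpecialLinearGroup (Fin 3) K)) :
    Nonempty (↥(T : Subgroup (Matrix.SpecialLinearGroup (Fin 3) K)) ≃* upper K 3) := by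
  obtain ⟨f, hp, hf⟩ := FiniteField.card K p
  have hU : IsPGroup p (upper K 3) := IsPGroup.of_card (n := ∑ j : Fin 3, (f : ℕ) * (j : ℕ)) (by
    rw [card_upper, ← Finset.prod_pow_eq_pow_sum]
    exact Finset.prod_congr rfl fun j _ => by rw [hf, pow_mul])
  obtain ⟨T', hT'⟩ := hU.exists_le_sylow
  have heq : upper K 3 = (T' : Subgroup _) := by
    refine Subgroup.eq_of_le_of_card_ge hT' ?_
    obtain ⟨k, hk⟩ := IsPGroup.iff_card.mp T'.2
    have h1 : p ^ k ∣ Nat.card (GL (Fin 3) K) := hk ▸ (Subgroup.card_subgroup_dvd_card _).trans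
      (Subgroup.card_dvd_of_injective _ (SpecialLinearGroup.toGL_injective (n := Fin 3) (R := K)))
    have h2 : Nat.card (GL (Fin 3) K) =
        Nat.card (upper K 3) * ∏ i : Fin 3, (Fintype.card K ^ (3 - (i : ℕ)) - 1) := by
      rw [card_upper, Matrix.card_GL_field, ← Finset.prod_mul_distrib]
      refine Finset.prod_congr rfl fun i _ => ?_
      rw [Nat.mul_sub, mul_one, ← pow_add, Nat.add_sub_cancel' i.2.le]
    have h3 : (p ^ k).Coprime (∏ i : Fin 3, (Fintype.card K ^ (3 - (i : ℕ)) - 1)) := by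
      refine Nat.Coprime.pow_left _ (Nat.Coprime.prod_right fun i _ => ?_)
      rw [hp.coprime_iff_not_dvd]
      intro hi
      have hne : (f : ℕ) * (3 - (i : ℕ)) ≠ 0 := Nat.mul_ne_zero f.ne_zero (Nat.sub_ne_zero_of_lt i.2)
      rw [hf, ← pow_mul] at hi
      have h5 := Nat.dvd_sub (dvd_pow_self p hne) hi
      rw [Nat.sub_sub_self (Nat.one_le_pow _ _ hp.pos)] at h5
      exact hp.not_dvd_one h5
    rw [hk]
    exact Nat.le_of_dvd Nat.card_pos (h3.dvd_of_dvd_mul_right (h2 ▸ h1))
  exact ⟨(T.equiv T').trans (MulEquiv.subgroupCongr heq.symm)⟩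

/-- A saturated system on a Sylow subgroup of `SL₃` with nontrivial core is constrained. -/
theorem isConstrained_SL3 {Ω : Type*} [Group Ω] {S : Subgroup Ω} [Finite S] {p : ℕ} [Fact p.Prime]
    (hS : IsPGroup p S) {F : FusionSystem S} (hF : F.IsSaturated p) [CharP K p]
    (T : Sylow p (Matrix.SpecialLinearGroup (Fin 3) K)) (e : ↥S ≃* ↥(T : Subgroup (Matrix.SpecialLinearGroup (Fin 3) K)))
    (hcore : F.core ≠ ⊥) : F.IsConstrained p := by
  obtain ⟨g⟩ := exists_upper_equiv p T
  let E := e.trans g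
  have hE : ∀ {a b : S}, Commute (E a) (E b) ↔ Commute a b := fun {a b} =>
    ⟨fun h => E.injective (by rw [map_mul, map_mul]; exact h.eq), fun h => h.map E.toMonoidHom⟩
  refine isConstrained_of_core_ne_bot hS hF (fun a b c => hE.mp ?_) (fun x hx z hz => ?_) (fun x hx a b ha hb => ?_) hcore
  · rw [map_mul, map_mul, map_mul, map_inv, map_inv]
    exact upper_class _ _ _
  · obtain ⟨a, ha⟩ := hx
    obtain ⟨B, hB⟩ := upper_surj (E x) ⟨E a, fun h => ha (hE.mp h)⟩ (E z) (fun B => by
      obtain ⟨b, rfl⟩ := E.surjective B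
      exact hE.mpr (hz b))
    obtain ⟨b, rfl⟩ := E.surjective B
    exact ⟨b, E.injective (by simpa using hB)⟩
  · obtain ⟨c, hc⟩ := hx
    exact hE.mp (upper_ab (E x) ⟨E c, fun h => hc (hE.mp h)⟩ _ _ (hE.mpr ha) (hE.mpr hb))

end CfsgLib.SemiExtraFusion
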